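import Cfsg.Agent.H983.IFO.Ree
import Cfsg.Agent.H460.IFO.E8F4
import Cfsg.Agent.H929.Gs.G2Form
import Cfsg.Agent.H542.Pi.G2Cases

/-!
# S5719: `KillO` for `G₂(q)` (helper983)

* `exists_sigma` : `σ² = frob⁻¹` : `|F| = 3 ^ (2 m + 1)`, `σ t = t ^ (3 ^ m)`;
* `std` : an automorphism of order two of the form `conj b * psi σ`, `b` in the Borel subgroup, is conjugate to `psi σ`;
* `g2_O`.
-/

set_option autoImplicit false
set_option linter.unusedSectionVars false

namespace Cfsg.Agent.H983.IFO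

open Subgroup Cfsg Cfsg.Lie Cfsg.Agent.ChevalleyStructure Cfsg.Agent.ChevalleyStructure.Elts
  Cfsg.Agent.H70.ChevFix Cfsg.Agent.H70.ChevField Cfsg.Agent.H70.OutCount Cfsg.Agent.Schreier.ChevLocal
  Cfsg.Agent.H70.PermFix Cfsg.Agent.Schreier.ChevSch Cfsg.Agent.H70.AutFix Cfsg.Agent.ChevalleyStructure.BNChev
  Cfsg.Agent.S1042 Cfsg.Agent.ChevalleyStructure.NConj Cfsg.Agent.H70.ChevTab
  Cfsg.Agent.H689.Ccp

universe u

theorem exists_sigma {F : Type u} [Field F] [Fintype F] [CharP F 3] (σ : F ≃+* F) (hσ : ∀ t, (σ (σ t)) ^ 3 = t) :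
    ∃ m : ℕ, Fintype.card F = 3 ^ (2 * m + 1) ∧ ∀ t, σ t = t ^ 3 ^ m := by
  let := ZMod.algebra F 3
  have : Fact (Nat.Prime 3) := ⟨Nat.prime_three⟩
  set n := Module.finrank (ZMod 3) F with hn
  have hcard : Fintype.card F = 3 ^ n := by
    have h := Module.card_eq_pow_finrank (K := ZMod 3) (V := F)
    rwa [ZMod.card] at h
  have hn0 : 0 < n := Module.finrank_pos
  have hpow : ∀ (j : ℕ) (x : F), (FiniteField.frobeniusAlgHom (ZMod 3) F ^ j) x = x ^ 3 ^ j := by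
    intro j x
    rw [AlgHom.coe_pow, FiniteField.coe_frobeniusAlgHom, pow_iterate, ZMod.card]
  have hc : ∀ r : ZMod 3, σ (algebraMap (ZMod 3) F r) = algebraMap (ZMod 3) F r := fun r => by
    have : ((σ : F →+* F).comp (algebraMap (ZMod 3) F)) = algebraMap (ZMod 3) F := Subsingleton.elim _ _
    exact congrArg (fun f : ZMod 3 →+* F => f r) this
  let τ : F →ₐ[ZMod 3] F := { (σ : F →+* F) with commutes' := hc }
  have hτ : ∀ x, τ x = σ x := fun x => rfl
  obtain ⟨⟨j, hj⟩, hj2⟩ := (FiniteField.bijective_frobeniusAlgHom_pow (ZMod 3) F).2 τ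
  have hσj : ∀ x, σ x = x ^ 3 ^ j := by
    intro x
    rw [← hτ, ← hj2]
    exact hpow j x
  have h1 : FiniteField.frobeniusAlgHom (ZMod 3) F ^ (2 * j + 1) = 1 := by
    apply AlgHom.ext
    intro x
    rw [hpow]
    show x ^ 3 ^ (2 * j + 1) = x
    have h2 := hσ x
    rw [hσj, hσj, ← pow_mul, ← pow_mul] at h2
    rw [← h2]
    nth_rw 1 [h2]
    congr 1
    ring
  have h2 : n ∣ 2 * j + 1 := by
    have h3 := orderOf_dvd_of_pow_eq_one h1
    rwa [FiniteField.orderOf_frobeniusAlgHom, ← hn] at h3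
  have hjn : j < n := hj
  obtain ⟨k, hk⟩ := h2
  have hk1 : k = 1 := by
    have h3 : k < 2 := by
      by_contra hcon
      have : n * 2 ≤ n * k := Nat.mul_le_mul_left n (by omega)
      omega
    interval_cases k
    · omega
    · rfl
  rw [hk1, mul_one] at hk
  exact ⟨j, by rw [hcard, hk], hσj⟩

open Cfsg.Agent.H69.OutGF (flip2)

section Std

variable {F : Type u} [Field F] [Finite F] [CharP F 3]

/-- `|U|` is odd -/
theorem odd_orderOf {u : GG2 F} (hu : u ∈ UU chevG2 F) : Odd (orderOf u) := by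
  have hf3 : Fact (Nat.Prime 3) := ⟨Nat.prime_three⟩
  have h1 : IsPGroup 3 ↥(UU chevG2 F) := isPGroup_UU F hD (p := 3)
  obtain ⟨k, hk⟩ := h1 ⟨u, hu⟩
  have h2 : u ^ 3 ^ k = 1 := congrArg Subtype.val hk
  have h3 := orderOf_dvd_of_pow_eq_one h2
  exact Odd.of_dvd_nat (Odd.pow (by decide)) h3

theorem mul_cj {G : Type*} [Group G] (φ : MulAut G) (g : G) : φ * MulAut.conj g = MulAut.conj (φ g) * φ := by
  refine MulEquiv.ext fun a => ?_
  simp only [MulAut.mul_apply, MulAut.conj_apply, map_mul, map_inv]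

theorem cj_inj {G : Type*} [Group G] (hZ : center G = ⊥) {a b : G} (h : MulAut.conj a = MulAut.conj b) : a = b := by
  have h1 : a⁻¹ * b ∈ center G := by
    rw [mem_center_iff]
    intro g
    have h4 := DFunLike.congr_fun h g
    rw [MulAut.conj_apply, MulAut.conj_apply] at h4
    have h5 : g * a⁻¹ * b = a⁻¹ * (a * g * a⁻¹) * b := by group
    rw [← mul_assoc, h5, h4]
    group
  rw [hZ, mem_bot] at h1
  exact (eq_of_inv_mul_eq_one h1)

theorem H_mul (hZ : center (GG2 F) = ⊥) {x y x' y' : F} (hx : x ≠ 0) (hy : y ≠ 0) (hx' : x' ≠ 0) (hy' : y' ≠ 0) :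
    H x y * H x' y' = (H (x * x') (y * y') : GG2 F) := by
  apply cj_inj hZ
  have key : ∀ r < 12, ∀ t : F, MulAut.conj (H x y * H x' y') (X r t) = MulAut.conj (H (x * x') (y * y')) (X r t) := by
    intro r hr t
    rw [map_mul, MulAut.mul_apply, MulAut.conj_apply, MulAut.conj_apply, MulAut.conj_apply, H_conj hx' hy' hr,
      H_conj hx hy hr, H_conj (mul_ne_zero hx hx') (mul_ne_zero hy hy') hr, mul_zpow, mul_zpow]
    congr 1
    ring
  exact ext_aut (key 7 (by norm_num)) (key 6 (by norm_num)) (key 4 (by norm_num)) (key 5 (by norm_num))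

theorem H_one_one (hZ : center (GG2 F) = ⊥) : (H 1 1 : GG2 F) = 1 := by
  have h := H_mul hZ (one_ne_zero (α := F)) (one_ne_zero (α := F)) (one_ne_zero (α := F)) (one_ne_zero (α := F))
  rw [mul_one] at h
  exact mul_eq_left.1 h

/-- **Conjugacy with the standard one.** -/
theorem std {b : GG2 F} (hb : b ∈ BB chevG2 F) (σ : F ≃+* F)
    (h2 : (MulAut.conj b * psi σ) * (MulAut.conj b * psi σ) = 1) (hZ : center (GG2 F) = ⊥) :
    (∀ t, (σ (σ t)) ^ 3 = t) ∧ ∃ w : GG2 F, MulAut.conj b * psi σ = MulAut.conj w * psi σ * (MulAut.conj w)⁻¹ := by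
  obtain ⟨u, hu, x, y, hx, hy, rfl⟩ := exists_B hb
  have h9 : ∀ s : F, x * σ (y * σ s ^ 3) = s := by
    intro s
    have h1 : (MulAut.conj (u * H x y) * psi σ) ((MulAut.conj (u * H x y) * psi σ) (X 9 s)) = X 9 s := by
      rw [← MulAut.mul_apply, h2, MulAut.one_apply]
    rw [map_9 hu hx hy, map_11 hu hx hy] at h1
    exact X_inj (by norm_num) h1
  have hxy : x * σ y = 1 := by
    have h1 := h9 1
    rwa [map_one, one_pow, mul_one] at h1
  have hσ : ∀ t, (σ (σ t)) ^ 3 = t := by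
    intro t
    have h1 := h9 t
    rw [map_mul, map_pow, ← mul_assoc, hxy, one_mul] at h1
    exact h1
  refine ⟨hσ, ?_⟩
  have hpsi : psi σ * psi σ = 1 := by
    rw [psi_sq]
    have e : σ * σ * frb F = 1 := by
      ext t
      show σ (σ (frb F t)) = t
      rw [frb_apply, map_pow, map_pow, hσ]
    rw [e, fld_one]
  have hyx : y * σ x ^ 3 = 1 := by
    have h1 : σ (x * σ y) ^ 3 = 1 := by rw [hxy, map_one, one_pow]
    rw [map_mul, mul_pow, hσ, mul_comm] at h1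
    exact h1
  -- `b * psi b = 1`
  have hbb : (u * H x y) * psi σ (u * H x y) = 1 := by
    have h1 : MulAut.conj ((u * H x y) * psi σ (u * H x y)) = 1 := by
      have h3 := mul_cj (psi σ) (u * H x y)
      calc MulAut.conj ((u * H x y) * psi σ (u * H x y))
          = MulAut.conj (u * H x y) * MulAut.conj (psi σ (u * H x y)) * 1 := by rw [map_mul, mul_one]
        _ = MulAut.conj (u * H x y) * (MulAut.conj (psi σ (u * H x y)) * psi σ) * psi σ := by
            rw [← hpsi]; simp only [mul_assoc]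
        _ = 1 := by rw [← h3, ← h2]; simp only [mul_assoc]
    have h3 : (u * H x y) * psi σ (u * H x y) ∈ center (GG2 F) := by
      rw [mem_center_iff]
      intro g
      have h4 := DFunLike.congr_fun h1 g
      rw [MulAut.conj_apply, MulAut.one_apply, mul_inv_eq_iff_eq_mul] at h4
      exact h4.symm
    rw [hZ, mem_bot] at h3
    exact h3
  have hσx : σ x ≠ 0 := by rwa [Ne, EmbeddingLike.map_eq_zero_iff]
  have hσy : σ y ≠ 0 := by rwa [Ne, EmbeddingLike.map_eq_zero_iff]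
  have hhh : H x y * psi σ (H x y) = 1 := by
    rw [psi_H σ hx hy, H_mul hZ hx hy hσy (pow_ne_zero 3 hσx), hxy, hyx, H_one_one hZ]
  set h := H x y with hh
  -- `ν = conj h * psi`
  have hν : h * psi σ u * h⁻¹ = u⁻¹ := by
    rw [map_mul] at hbb
    have h1 : u * (h * psi σ u * h⁻¹) * (h * psi σ h) = 1 := by rw [← hbb]; group
    rw [hhh, mul_one] at h1
    exact (inv_eq_of_mul_eq_one_right h1).symm
  obtain ⟨k, hk⟩ := odd_orderOf hu
  set v := u ^ (k + 1) with hv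
  have hvv : v * v = u := by
    rw [hv, ← pow_add, show k + 1 + (k + 1) = orderOf u + 1 by omega, pow_succ, pow_orderOf_eq_one, one_mul]
  have hνv : h * psi σ v * h⁻¹ = v⁻¹ := by
    rw [hv, map_pow, ← inv_pow, ← hν, conj_pow]
  have hs : H x 1 * (psi σ (H x 1))⁻¹ = h := by
    rw [mul_inv_eq_iff_eq_mul, psi_H σ hx one_ne_zero, map_one, H_mul hZ hx hy one_ne_zero (pow_ne_zero 3 hσx),
      mul_one, hyx]
  refine ⟨v * H x 1, ?_⟩
  have h3 : (v * H x 1) * (psi σ (v * H x 1))⁻¹ = u * h := by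
    rw [map_mul, mul_inv_rev]
    calc v * H x 1 * ((psi σ (H x 1))⁻¹ * (psi σ v)⁻¹)
        = v * (H x 1 * (psi σ (H x 1))⁻¹) * (psi σ v)⁻¹ := by group
      _ = v * h * (psi σ v)⁻¹ := by rw [hs]
      _ = v * (h * psi σ v * h⁻¹)⁻¹ * h := by group
      _ = v * v * h := by rw [hνv, inv_inv]
      _ = u * h := by rw [hvv]
  rw [mul_assoc (MulAut.conj (v * H x 1)), ← map_inv, mul_cj, ← mul_assoc (MulAut.conj (v * H x 1)), ← map_mul,
    map_inv, h3]

theorem X_cube (r : ℕ) (t : F) : (X r t : GG2 F) ^ 3 = 1 := by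
  rw [pow_three, ← X_add, ← X_add]
  have h3 : (3 : F) = 0 := by
    have := CharP.cast_eq_zero F 3
    exact_mod_cast this
  have e : t + (t + t) = 0 := by linear_combination t * h3
  rw [e, X_zero]

theorem X_81 (s t : F) : (X 8 s : GG2 F) * X 1 t = X 1 t * X 8 s := by
  apply toM_inj
  rw [map_mul, map_mul, toM_X, toM_X]
  exact Ree.Words.X_comm (CharP.cast_eq_zero F 3) (p := (8, 1)) (by decide) s t

theorem X_81_ne (t : F) : (X 8 1 : GG2 F) * X 1 t ≠ 1 := by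
  intro h
  have h1 : (X 8 1 : GG2 F) = X 1 (-t) := by
    rw [X_neg]
    exact eq_inv_of_mul_eq_one_left h
  have h2 := congrArg (fun g => toM g (Sum.inr (8 : Fin 12)) (Sum.inl (0 : Fin 2))) h1
  simp only [toM_X] at h2
  have h3 : (Ree.Checks.X 8 (1 : F)) (Sum.inr (8 : Fin 12)) (Sum.inl (0 : Fin 2)) = 1 := by
    have e : (chevG2.cartanSR.getD 0 #[]).getD 8 0 = (-1 : ℤ) := by decide +kernel
    show (if (8 : Fin 12) = (8 : Fin 12) then - (((chevG2.cartanSR.getD 0 #[]).getD 8 0 : ℤ) : F) * 1 else 0) = 1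
    rw [if_pos rfl, e]
    push_cast
    ring
  have h4 : (Ree.Checks.X 1 (-t)) (Sum.inr (8 : Fin 12)) (Sum.inl (0 : Fin 2)) = (0 : F) := by
    show (if (8 : Fin 12) = (1 : Fin 12) then - (((chevG2.cartanSR.getD 0 #[]).getD 1 0 : ℤ) : F) * (-t) else 0) = 0
    rw [if_neg (by decide)]
  rw [h3, h4] at h2
  exact one_ne_zero h2

open Cfsg.Agent.H542.Pi Cfsg.Agent.H542.Pi.G2P Cfsg.Agent.H929.Gs.G2 Cfsg.Agent.H245.DG.G2 in
/-- **Graph involutions are conjugate to `psi σ`.** -/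
theorem exists_std {F : Type} [Field F] [Finite F] [CharP F 3] [IsSimpleGroup (GG2 F)] {x : MulAut (GG2 F)} (hx : Ty chevG2 F x flip2) (h2 : x * x = 1) :
    ∃ (z : GG2 F) (σ : F ≃+* F), (∀ t, (σ (σ t)) ^ 3 = t) ∧ x = MulAut.conj z * psi σ * (MulAut.conj z)⁻¹ := by
  have hf3 : Fact (Nat.Prime 3) := ⟨Nat.prime_three⟩
  obtain ⟨y, hy⟩ := exists_sw hx h2
  set x' := MulAut.conj y * x * (MulAut.conj y)⁻¹ with hx'
  have h2' : x' * x' = 1 := by
    rw [hx']
    have e : MulAut.conj y * x * (MulAut.conj y)⁻¹ * (MulAut.conj y * x * (MulAut.conj y)⁻¹) =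
      MulAut.conj y * (x * x) * (MulAut.conj y)⁻¹ := by group
    rw [e, h2, mul_one, mul_inv_cancel]
  have hty : Ty chevG2 F x' flip2 := by
    have h3 : Ty chevG2 F x' (1 * flip2 * 1⁻¹) := ((Ty.conj y).mul hx).mul (Ty.conj y).inv
    rwa [one_mul, inv_one, mul_one] at h3
  have hfix : H459.Iface.FixR 3 x' := by
    obtain ⟨f, -, -, hf⟩ := hy 8 (by norm_num)
    have hf1 : x' (X 8 1) = X 1 (f 1) := hf 1
    have hf2 : x' (X 1 (f 1)) = X 8 1 := by
      rw [← hf1, ← MulAut.mul_apply, h2', MulAut.one_apply]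
    have hfx : x' (X 8 1 * X 1 (f 1)) = X 8 1 * X 1 (f 1) := by
      rw [map_mul, hf1, hf2, X_81]
    refine ⟨zpowers (X 8 1 * X 1 (f 1)), ?_, ?_, ?_⟩
    · rw [Ne, zpowers_eq_bot]
      exact X_81_ne _
    · have h3 : ((X 8 1 : GG2 F) * X 1 (f 1)) ^ 3 = 1 := by
        rw [(show Commute (X 8 1 : GG2 F) (X 1 (f 1)) from X_81 _ _).mul_pow, X_cube, X_cube, one_mul]
      rw [IsPGroup.iff_card]
      have h4 : orderOf ((X 8 1 : GG2 F) * X 1 (f 1)) ∣ 3 ^ 1 := by
        rw [pow_one]; exact orderOf_dvd_of_pow_eq_one h3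
      obtain ⟨j, -, hj⟩ := (Nat.dvd_prime_pow Nat.prime_three).1 h4
      exact ⟨j, by rw [Nat.card_zpowers, hj]⟩
    · rintro _ ⟨k, rfl⟩
      show x' ((X 8 1 * X 1 (f 1)) ^ k) ∈ _
      rw [map_zpow, hfx]
      exact ⟨k, rfl⟩
  obtain ⟨g₀, g, β, e, hβ, hg⟩ := exists_chamber (t := 3) hty hfix
  have hBB : Cfsg.Agent.Nodes.BNOf.RGD.B cs hp.isCartan (KFacts.RgdChevCoord.TT chevG2 F) (KFacts.RgdChevCoord.XX chevG2 2 F) =
      BB chevG2 F := H115.borel_eq hp cs
  obtain ⟨p, q, hp', hq', τ, hβ'⟩ := exists_form hβ Cfsg.Agent.H69.OutGF.flip2_ne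
  have hb : g * H p q ∈ BB chevG2 F := mul_mem (hBB ▸ hg) (HH_le (H_mem hp' hq'))
  have he : H459.Gallery.cx x' g₀ = MulAut.conj (g * H p q) * psi τ := by
    rw [e, hβ', map_mul, mul_assoc]
  have hcc : H459.Gallery.cx x' g₀ * H459.Gallery.cx x' g₀ = 1 := by
    unfold H459.Gallery.cx
    have e : (MulAut.conj g₀)⁻¹ * x' * MulAut.conj g₀ * ((MulAut.conj g₀)⁻¹ * x' * MulAut.conj g₀) =
      (MulAut.conj g₀)⁻¹ * (x' * x') * MulAut.conj g₀ := by group
    rw [e, h2', mul_one, inv_mul_cancel]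
  rw [he] at hcc
  have hZ : center (GG2 F) = ⊥ := by
    rcases (inferInstance : (center (GG2 F)).Normal).eq_bot_or_eq_top with h | h
    · exact h
    · exfalso
      have h3 : (X 7 1 : GG2 F) ∈ center (GG2 F) := by rw [h]; exact mem_top _
      have h4 := mem_center_iff.1 h3 (X 8 1)
      have h5 : (X 8 1 : GG2 F) * X 7 1 = X 7 1 * X 8 1 * X 9 (-(1 * 1)) := by
        apply toM_inj
        rw [map_mul, map_mul, map_mul, toM_X, toM_X, toM_X]
        exact Ree.Words.X_87 (CharP.cast_eq_zero F 3) 1 1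
      rw [h4] at h5
      have h6 : (X 9 (-(1 * 1)) : GG2 F) = X 9 0 := by
        rw [X_zero]
        exact (mul_eq_left.1 h5.symm)
      have h7 := X_inj (by norm_num) h6
      norm_num at h7
  obtain ⟨hτ, w, hw⟩ := std hb τ hcc hZ
  refine ⟨y⁻¹ * g₀ * w, τ, hτ, ?_⟩
  rw [map_mul, map_mul, map_inv]
  rw [← he] at hw
  have e1 : x = (MulAut.conj y)⁻¹ * (MulAut.conj g₀ * H459.Gallery.cx x' g₀ * (MulAut.conj g₀)⁻¹) * MulAut.conj y := by
    unfold H459.Gallery.cx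
    rw [hx']
    group
  rw [e1, hw]
  group

end Std

open Cfsg.Agent.H542.Pi Cfsg.Agent.H542.Pi.G2P Cfsg.Agent.H245.DG.G2 in
/-- the graph case -/
theorem no_graph_G2 {F : Type} [Field F] [Fintype F] [CharP F 3] [IsSimpleGroup (GG2 F)] {A : Subgroup (GG2 F)}
    {Γ : Subgroup (MulAut (GG2 F))} (h : H209.Fxy.IF A Γ) (hO : Odd (Nat.card A)) {x : MulAut (GG2 F)}
    (hx : x ∈ Γ) (h2 : orderOf x = 2) (hty : Ty chevG2 F x flip2) : False := by
  have hfin : Finite (GG2 F) := inferInstance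
  have hxx : x * x = 1 := by rw [← pow_two, ← h2, pow_orderOf_eq_one]
  obtain ⟨z, σ, hσ, e⟩ := exists_std hty hxx
  obtain ⟨m, hK, hσm⟩ := exists_sigma σ hσ
  let j : ↥(twistedG2 F (3 ^ m)) →* GG2 F := (MulAut.conj z).toMonoidHom.comp (inclusion (twisted_le (3 ^ m)))
  have hi : Function.Injective j := (MulAut.conj z).injective.comp (inclusion_injective _)
  have hj : ∀ k, x (j k) = j k := by
    intro k
    have h1 : psi σ (inclusion (twisted_le (3 ^ m)) k) = inclusion (twisted_le (3 ^ m)) k :=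
      psi_fix σ hσm (fun s => by rw [← hσm, ← hσm]; exact hσ s) k
    rw [e]
    show (MulAut.conj z * psi σ * (MulAut.conj z)⁻¹) (MulAut.conj z (inclusion (twisted_le (3 ^ m)) k)) =
      MulAut.conj z (inclusion (twisted_le (3 ^ m)) k)
    rw [MulAut.mul_apply, MulAut.inv_apply_self, MulAut.mul_apply, h1]
  have h3 := Cfsg.Agent.H460.IFO.comap_lt h hx h2 j hj
  have h4 := ree_lt_index hK (Cfsg.Agent.H460.IFO.odd_comap hO hi)
  have h5 := Cfsg.Agent.H460.IFO.card_le (D := chevG2) (by simp [H249.Pi.FldType.Ex5]) F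
  have h6 := Cfsg.Agent.H460.IFO.index_le_card A
  have h7 : 3 * (chevG2.nroots / 2) = 18 := by decide
  rw [h7, Nat.card_eq_fintype_card (α := F), hK] at h5
  have h8 : ((3 ^ (2 * m + 1)) ^ 3) ^ 6 ≤ (A.comap j).index ^ 6 := Nat.pow_le_pow_left h4.le 6
  rw [← pow_mul, show 3 * 6 = 18 from rfl] at h8
  exact absurd ((h8.trans_lt h3).trans_le (h6.trans h5)) (lt_irrefl _)

open Cfsg.Agent.H542.Pi Cfsg.Agent.H542.Pi.G2P Cfsg.Agent.H245.DG.G2 in
/-- **`KillO` for `G₂(F)`.** -/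
theorem g2_O (F : Type) [Field F] [Fintype F] (h3 : 3 ≤ Fintype.card F) (hs : IsSimpleGroup (chevG2.group F)) :
    H209.Fxy.KillO (chevG2.group F) := by
  intro A Γ h hO
  obtain ⟨x, hx, h2, -⟩ := Cfsg.Agent.H460.IFO.exists_outer h hO
  obtain ⟨g0, π, -, -, h1, h2'⟩ := exists_conj_perm (F := F) Cfsg.Agent.H689.Ccp.hD x
  have hφ : Perm chevG2 F (MulAut.conj g0 * x) π := ⟨h1, h2'⟩
  rcases Cfsg.Agent.H245.DG.G2.perm_cases π with rfl | rfl
  · obtain ⟨g, τ, α, hα, h⟩ := Cfsg.Agent.H245.DG.G2.of_perm_one hφ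
    have hxe : x = MulAut.conj (g0⁻¹ * g) * α := by
      rw [map_mul, map_inv, mul_assoc, ← h, inv_mul_cancel_left]
    exact Cfsg.Agent.H460.IFO.false_of_innerField (by simp [H249.Pi.FldType.Ex5]) ‹_› hO hx h2 (isFieldAut hα) hxe
  · have hch : CharP F 3 := charP (by rw [Nat.card_eq_fintype_card]; exact h3) hφ
    exact no_graph_G2 h hO hx h2 ⟨g0⁻¹, MulAut.conj g0 * x, by rw [map_inv, inv_mul_cancel_left], hφ⟩

end Cfsg.Agent.H983.IFO
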