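import Cfsg.Agent.H460.IFO.StIdx
import Cfsg.Agent.H88.ReeTwo
import Cfsg.Agent.H689.Ccp.GForm
import Cfsg.Agent.ChevalleyStructure.Ree.Data
import Cfsg.Agent.S0157

/-!
# `²G₂(q)` inside `G₂(q)`: odd subgroups and the graph automorphism (helper983)

* `ree_lt_index` : a subgroup of odd order of `²G₂(q)` has index `> q ^ 3`;
* `psi_fix` : `psi σ` fixes `²G₂(q)` if `σ s = s ^ (3 ^ m)`.
-/

set_option autoImplicit false
set_option linter.unusedSectionVars false

namespace Cfsg.Agent.H983.IFO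

open Subgroup Cfsg Cfsg.Lie MulAction
open Cfsg.Agent.LieRecognition.ReeAbs Cfsg.Agent.LieRecognition.ReeSplit

universe u

/-- **A subgroup of odd order of `²G₂(q)` has index larger than `q ^ 3`.** -/
theorem ree_lt_index {K : Type u} [Field K] [Fintype K] {m : ℕ} (hK : Fintype.card K = 3 ^ (2 * m + 1))
    {X : Subgroup ↥(twistedG2 K (3 ^ m))} (hX : Odd (Nat.card X)) : (3 ^ (2 * m + 1)) ^ 3 < X.index := by
  classical
  obtain ⟨U, h, n, D⟩ := Cfsg.Agent.ChevalleyStructure.Ree.Data.exists_data (K := K) hK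
  have hfin : Finite ↥(twistedG2 K (3 ^ m)) := Cfsg.Agent.LieRecognition.ReeSylowThree.finite D
  have h2 : IsMultiplyPretransitive ↥(twistedG2 K (3 ^ m)) (↥(twistedG2 K (3 ^ m)) ⧸ bSub D) 2 :=
    Cfsg.Agent.H88.ReeTwo.two_coset D
  have hN : Nat.card (↥(twistedG2 K (3 ^ m)) ⧸ bSub D) = (3 ^ (2 * m + 1)) ^ 3 + 1 := by
    rw [Cfsg.Agent.H88.ReeTwo.card_coset D, hK]
  have hpos : 1 < (3 ^ (2 * m + 1)) ^ 3 := Nat.one_lt_pow (by norm_num) (Nat.one_lt_pow (by omega) (by norm_num))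
  have hSt := (Cfsg.Agent.S0157.result (G := ↥(twistedG2 K (3 ^ m))) (↥(twistedG2 K (3 ^ m)) ⧸ bSub D)
    (by rw [hN]; omega)).2 h2
  refine Cfsg.Agent.H460.IFO.lt_index hSt
    (fun g => (Nat.card (fixedBy (↥(twistedG2 K (3 ^ m)) ⧸ bSub D) g) : ℤ) - 1) (fun g => by push_cast; rfl)
    (fun g => by rw [Cfsg.Agent.H460.IFO.fixedBy_inv]) ?_ ?_ hpos hX
  · rw [fixedBy_one_eq_univ, Nat.card_coe_set_eq, Set.ncard_univ, hN]
    push_cast
    ring
  · exact Odd.pow (Odd.pow (by decide))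

open Cfsg.Agent.H689.Ccp
open Cfsg.Agent.ChevalleyStructure.Ree

section Psi

variable {F : Type u} [Field F] [Finite F] [CharP F 3]

/-- root elements as matrices -/
local notation "RX" => Checks.X (K := F)

/-- the matrix -/
def toM : GG2 F →* Matrix chevG2.Idx chevG2.Idx F := (Units.coeHom _).comp (chevG2.group F).subtype

theorem toM_inj : Function.Injective (toM (F := F)) := fun _ _ h => Subtype.ext (Units.ext h)

theorem toM_X (r : ℕ) (t : F) : toM (X r t : GG2 F) = RX r t := rfl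

/-- value of a word -/
def val (L : List (ℕ × F)) : GG2 F := (L.map fun p => X p.1 p.2).prod

theorem toM_val (L : List (ℕ × F)) : toM (val L) = chevG2.wordMat F L := by
  unfold val ChevalleyDatum.wordMat
  rw [map_list_prod, List.map_map]
  rfl

theorem val_nil : val ([] : List (ℕ × F)) = 1 := rfl

theorem val_cons (r : ℕ) (t : F) (L : List (ℕ × F)) : val ((r, t) :: L) = X r t * val L := rfl

/-- the images of the words under `psi σ` -/
def pL (σ : F ≃+* F) (L : List (ℕ × F)) : List (ℕ × F) := L.map fun p => (fl p.1, σ p.2 ^ la p.1)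

theorem psi_val (σ : F ≃+* F) {L : List (ℕ × F)} (hL : ∀ p ∈ L, p.1 < 12) : psi σ (val L) = val (pL σ L) := by
  induction L with
  | nil => exact map_one _
  | cons p L ih =>
    obtain ⟨r, t⟩ := p
    rw [val_cons, map_mul, psi_X σ (hL _ List.mem_cons_self), ih fun p hp => hL p (List.mem_cons_of_mem _ hp)]
    rfl

/-- the opposite words -/
def nL (L : List (ℕ × F)) : List (ℕ × F) := L.map fun p => (11 - p.1, -p.2)

theorem toM_nL {L : List (ℕ × F)} (hL : ∀ p ∈ L, p.1 < 12) :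
    toM (val (nL L)) = Checks.nMat F * toM (val L) *
      Checks.nMat F := by
  have h3 : ((3 : ℕ) : F) = 0 := CharP.cast_eq_zero F 3
  induction L with
  | nil =>
    show toM (1 : GG2 F) = _ * toM (1 : GG2 F) * _
    rw [map_one, mul_one, Words.n_sq]
  | cons p L ih =>
    obtain ⟨r, t⟩ := p
    have hr : r < 12 := hL _ List.mem_cons_self
    have e : nL ((r, t) :: L) = (11 - r, -t) :: nL L := rfl
    rw [e, val_cons, val_cons, map_mul, map_mul, ih fun p hp => hL p (List.mem_cons_of_mem _ hp)]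
    have h1 := Words.n_conj h3 hr t
    rw [toM_X, toM_X]
    calc RX (11 - r) (-t) * (Checks.nMat F * toM (val L) *
          Checks.nMat F)
        = (RX (11 - r) (-t) * Checks.nMat F) *
            toM (val L) * Checks.nMat F := by simp only [mul_assoc]
      _ = _ := by rw [← h1]; simp only [mul_assoc]

theorem tab_n : ∀ r < 12, fl (11 - r) = 11 - fl r ∧ la (11 - r) = la r ∧ (la r = 1 ∨ la r = 3) := by decide +kernel

theorem pL_nL (σ : F ≃+* F) {L : List (ℕ × F)} (hL : ∀ p ∈ L, p.1 < 12) : pL σ (nL L) = nL (pL σ L) := by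
  unfold pL nL
  rw [List.map_map, List.map_map]
  refine List.map_congr_left fun p hp => ?_
  obtain ⟨h1, h2, h3⟩ := tab_n p.1 (hL p hp)
  simp only [Function.comp_apply]
  rw [h1, h2, map_neg]
  rcases h3 with h3 | h3
  · rw [h3, pow_one, pow_one]
  · rw [h3]; congr 1; ring

theorem pL_lt (σ : F ≃+* F) {L : List (ℕ × F)} (hL : ∀ p ∈ L, p.1 < 12) : ∀ p ∈ pL σ L, p.1 < 12 := by
  intro p hp
  obtain ⟨a, ha, rfl⟩ := List.mem_map.1 hp
  exact (fl_tab a.1 (hL a ha)).1

/-- fixed words have fixed opposites -/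
theorem psi_nL (σ : F ≃+* F) {L : List (ℕ × F)} (hL : ∀ p ∈ L, p.1 < 12) (h : psi σ (val L) = val L) :
    psi σ (val (nL L)) = val (nL L) := by
  have hn : ∀ p ∈ nL L, p.1 < 12 := by
    intro p hp
    obtain ⟨a, ha, rfl⟩ := List.mem_map.1 hp
    show 11 - a.1 < 12
    omega
  apply toM_inj
  rw [psi_val σ hn, pL_nL σ hL, toM_nL (pL_lt σ hL), ← psi_val σ hL, h, toM_nL hL]

theorem reorder {M : Type*} [Monoid M] {a b c d a' b' : M} (h1 : b * a' = a' * b) (h2 : c * a' = a' * c)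
    (h3 : d * a' = a' * d) (h4 : c * b' = b' * c) (h5 : d * b' = b' * d) :
    a * (b * (c * (d * (a' * b')))) = (a * a') * ((b * b') * (c * d)) := by
  have e1 : d * (a' * b') = a' * (b' * d) := by rw [← mul_assoc, h3, mul_assoc, h5]
  have e2 : c * (a' * (b' * d)) = a' * (b' * (c * d)) := by
    rw [← mul_assoc, h2, mul_assoc, ← mul_assoc c, h4, mul_assoc]
  have e3 : b * (a' * (b' * (c * d))) = a' * (b * (b' * (c * d))) := by rw [← mul_assoc, h1, mul_assoc]
  rw [e1, e2, e3]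
  simp only [mul_assoc]

/-- the words of `²G₂` are fixed -/
theorem psi_U (σ : F ≃+* F) {e : ℕ} (hσ : ∀ s, σ s = s ^ e) (h3e : ∀ s : F, ((s ^ e) ^ e) ^ 3 = s) (t u v : F) :
    psi σ (val (reeWordU e t u v)) = val (reeWordU e t u v) := by
  have h3 : ((3 : ℕ) : F) = 0 := CharP.cast_eq_zero F 3
  have hadd3 : ∀ x y : F, (x + y) ^ 3 = x ^ 3 + y ^ 3 := fun x y => by
    have := Fact.mk Nat.prime_three
    exact add_pow_char x y 3
  set p := t ^ e with hp
  have hpe : (p ^ e) ^ 3 = t := h3e t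
  have e1 : reeWordU e t u v = [(7, p), (6, t), (8, p * t + u ^ e), (9, p ^ 2 * t + v ^ e), (10, u), (11, v)] := by
    have a1 : t ^ (e + 1) = p * t := by rw [pow_succ]
    have a2 : t ^ (2 * e + 1) = p ^ 2 * t := by rw [pow_succ, mul_comm 2 e, pow_mul]
    unfold reeWordU
    rw [a1, a2]
    rfl
  have hL : ∀ q ∈ reeWordU e t u v, q.1 < 12 := by
    intro q hq
    rw [e1] at hq
    simp only [List.mem_cons, List.not_mem_nil, or_false] at hq
    rcases hq with rfl | rfl | rfl | rfl | rfl | rfl <;> norm_num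
  have b0 : σ p ^ 3 = t := by rw [hσ, hpe]
  have b1 : σ t = p := hσ t
  have b2 : ∀ w : F, σ (w ^ e) ^ 3 = w := fun w => by rw [hσ]; exact h3e w
  have b3 : σ (p * t + u ^ e) ^ 3 = t * p ^ 3 + u := by
    rw [map_add, hadd3, b2, map_mul, mul_pow, b0, b1]
  have b4 : σ (p ^ 2 * t + v ^ e) ^ 3 = t ^ 2 * p ^ 3 + v := by
    rw [map_add, hadd3, b2, map_mul, mul_pow, map_pow, ← pow_mul, mul_comm 2 3, pow_mul, b0, b1]
  have e2 : pL σ (reeWordU e t u v) =
      [(6, t), (7, p), (10, t * p ^ 3 + u), (11, t ^ 2 * p ^ 3 + v), (8, u ^ e), (9, v ^ e)] := by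
    rw [e1]
    have l7 : (fl 7, la 7) = (6, 3) := by decide +kernel
    have l6 : (fl 6, la 6) = (7, 1) := by decide +kernel
    have l8 : (fl 8, la 8) = (10, 3) := by decide +kernel
    have l9 : (fl 9, la 9) = (11, 3) := by decide +kernel
    have l10 : (fl 10, la 10) = (8, 1) := by decide +kernel
    have l11 : (fl 11, la 11) = (9, 1) := by decide +kernel
    simp only [Prod.mk.injEq] at l7 l6 l8 l9 l10 l11
    simp only [pL, List.map_cons, List.map_nil, l7, l6, l8, l9, l10, l11, b0, b1, b3, b4, pow_one]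
    rw [hσ u, hσ v]
  rw [psi_val σ hL, e2, e1]
  apply toM_inj
  have c67 := Words.X_67 h3 t p
  have cc : ∀ {i j : ℕ}, (i, j) ∈ Checks.commPairs → ∀ s t : F, RX i s * RX j t = RX j t * RX i s :=
    fun h s t => Words.X_comm h3 h s t
  have ad : ∀ {r : ℕ}, r < 12 → ∀ s t : F, RX r s * RX r t = RX r (s + t) := fun h s t => Words.X_add h s t
  simp only [val_cons, val_nil, map_mul, toM_X, mul_one]
  calc RX 6 t * (RX 7 p * (RX 10 (t * p ^ 3 + u) * (RX 11 (t ^ 2 * p ^ 3 + v) * (RX 8 (u ^ e) * RX 9 (v ^ e)))))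
      = RX 6 t * RX 7 p * (RX 10 (t * p ^ 3 + u) * (RX 11 (t ^ 2 * p ^ 3 + v) * (RX 8 (u ^ e) * RX 9 (v ^ e)))) := by
        simp only [mul_assoc]
    _ = RX 7 p * RX 6 t * RX 8 (t * p) * RX 9 (t * p ^ 2) * RX 10 (-(t * p ^ 3)) * RX 11 (-(t ^ 2 * p ^ 3)) *
        (RX 10 (t * p ^ 3 + u) * (RX 11 (t ^ 2 * p ^ 3 + v) * (RX 8 (u ^ e) * RX 9 (v ^ e)))) := by rw [c67]
    _ = RX 7 p * (RX 6 t * (RX 8 (t * p) * (RX 9 (t * p ^ 2) * (RX 10 (-(t * p ^ 3)) *
        ((RX 11 (-(t ^ 2 * p ^ 3)) * RX 10 (t * p ^ 3 + u)) * (RX 11 (t ^ 2 * p ^ 3 + v) *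
          (RX 8 (u ^ e) * RX 9 (v ^ e)))))))) := by simp only [mul_assoc]
    _ = RX 7 p * (RX 6 t * (RX 8 (t * p) * (RX 9 (t * p ^ 2) * ((RX 10 (-(t * p ^ 3)) * RX 10 (t * p ^ 3 + u)) *
        ((RX 11 (-(t ^ 2 * p ^ 3)) * RX 11 (t ^ 2 * p ^ 3 + v)) *
          (RX 8 (u ^ e) * RX 9 (v ^ e))))))) := by
        rw [← cc (i := 10) (j := 11) (by decide)]; simp only [mul_assoc]
    _ = RX 7 p * (RX 6 t * (RX 8 (t * p) * (RX 9 (t * p ^ 2) * (RX 10 u * (RX 11 v *
          (RX 8 (u ^ e) * RX 9 (v ^ e))))))) := by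
        rw [ad (by norm_num), ad (by norm_num)]
        congr 6
        · ring
        · congr 2; ring
    _ = _ := by
        rw [reorder (cc (i := 8) (j := 9) (by decide) _ _).symm (cc (i := 8) (j := 10) (by decide) _ _).symm
          (cc (i := 8) (j := 11) (by decide) _ _).symm (cc (i := 9) (j := 10) (by decide) _ _).symm
          (cc (i := 9) (j := 11) (by decide) _ _).symm, ad (by norm_num), ad (by norm_num)]
        congr 4
        · ring
        · congr 2; ring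

theorem negWord_eq (e : ℕ) (t u v : F) : reeWordV e t u v = nL (reeWordU e t u v) := by
  rw [Words.reeWordV_eq]
  rfl

theorem reeU_lt (e : ℕ) (t u v : F) : ∀ q ∈ reeWordU e t u v, q.1 < 12 := by
  intro q hq
  have e1 : reeWordU e t u v = [(7, t ^ e), (6, t), (8, t ^ (e + 1) + u ^ e), (9, t ^ (2 * e + 1) + v ^ e), (10, u),
    (11, v)] := rfl
  rw [e1] at hq
  simp only [List.mem_cons, List.not_mem_nil, or_false] at hq
  rcases hq with rfl | rfl | rfl | rfl | rfl | rfl <;> norm_num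

theorem twisted_le (e : ℕ) : twistedG2 F e ≤ chevG2.group F := by
  unfold twistedG2 ChevalleyDatum.genSubgroup
  rw [closure_le]
  rintro g ⟨w, -, hg⟩
  have h : ((val w : GG2 F) : GL chevG2.Idx F) = g := by
    apply Units.ext
    rw [hg, ← toM_val]
    rfl
  rw [← h]
  exact (val w : GG2 F).2

/-- **`psi σ` fixes `²G₂`.** -/
theorem psi_fix (σ : F ≃+* F) {e : ℕ} (hσ : ∀ s, σ s = s ^ e) (h3e : ∀ s : F, ((s ^ e) ^ e) ^ 3 = s)
    (k : ↥(twistedG2 F e)) : psi σ (inclusion (twisted_le e) k) = inclusion (twisted_le e) k := by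
  -- the fixed points of `psi σ`
  have key : ∀ g ∈ twistedG2 F e, ∃ x : GG2 F, (x : GL chevG2.Idx F) = g ∧ psi σ x = x := by
    intro g hg
    unfold twistedG2 ChevalleyDatum.genSubgroup at hg
    induction hg using closure_induction with
    | mem g hg =>
      obtain ⟨w, ⟨t, u, v, hw⟩, hgw⟩ := hg
      have h1 : ∀ L : List (ℕ × F), w = L → ((val L : GG2 F) : GL chevG2.Idx F) = g := by
        rintro L rfl
        apply Units.ext
        rw [hgw, ← toM_val]
        rfl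
      rcases hw with hw | hw
      · exact ⟨val (reeWordU e t u v), h1 _ hw, psi_U σ hσ h3e t u v⟩
      · rw [negWord_eq] at hw
        exact ⟨val (nL (reeWordU e t u v)), h1 _ hw, psi_nL σ (reeU_lt e t u v) (psi_U σ hσ h3e t u v)⟩
    | one => exact ⟨1, rfl, map_one _⟩
    | mul a b _ _ iha ihb =>
      obtain ⟨x, rfl, hx⟩ := iha
      obtain ⟨y, rfl, hy⟩ := ihb
      exact ⟨x * y, rfl, by rw [map_mul, hx, hy]⟩
    | inv a _ iha =>
      obtain ⟨x, rfl, hx⟩ := iha
      exact ⟨x⁻¹, rfl, by rw [map_inv, hx]⟩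
  obtain ⟨x, hx, h1⟩ := key k.1 k.2
  have h2 : inclusion (twisted_le e) k = x := Subtype.ext hx.symm
  rw [h2, h1]

end Psi

end Cfsg.Agent.H983.IFO
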